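import Cfsg.Agent.Lib.MatB.H2D
import Cfsg.Agent.Lib.Comp.M23x.Main

/-! # `M23`: letters, words and Carmichael generators for the cohomology computations -/

set_option maxRecDepth 100000
set_option Elab.async false

namespace Cfsg.Lib.Comp.M23h

open Cfsg.Lib.MatB Cfsg.Lib.MatB.H2
open Golay (om gc wordN)
open scoped Pointwise

def gs : List ℕ := [nat_lit 0x1706080f0c1005070a11130d16140904120b0e1503020100, nat_lit 0x17161513140902070f050a0c040d120610080e0b03110100, nat_lit 0x1712150a0616110c0f0e08100414090d0713030b05010200, nat_lit 0x1716150a0d12110500071303041409060e08100b0c02010f]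

noncomputable def dw (x : ℕ) : List ℕ := nth [] [[], [0], [0, 0], [1, 2, 1, 0, 1, 2, 1, 0, 2, 0, 1, 2, 0, 0], [1, 2, 0, 0, 1, 2, 1, 0, 1, 2, 1, 0, 2, 0], [2, 0, 3, 0, 1, 0, 2, 0, 0, 3, 1, 0, 2, 1, 0, 3, 1, 0, 0], [1], [2], [3]] x

def RW : List (List ℕ) := [[1, 1], [2, 2], [3, 3], [0, 0, 0], [1, 3, 1, 3], [2, 3, 2, 3], [0, 1, 0, 1, 0, 1], [0, 3, 0, 3, 0, 3], [1, 2, 1, 2, 1, 2], [0, 2, 0, 2, 0, 2, 0, 2], [0, 1, 2, 0, 1, 2, 0, 1, 2, 0, 1, 2, 0, 1, 2]]

def T0 : List (List ℕ × ℕ) := [([3, 3], 0), ([4, 4], 0), ([1, 1, 1], 0), ([3, 4, 3, 4], 0), ([1, 3, 1, 3, 1, 3], 0), ([1, 4, 1, 4, 1, 4], 0), ([1, 4, 2, 3, 1, 4, 2, 3], 0), ([5, 5], 0), ([3, 5, 3, 5, 3, 5], 0), ([1, 4, 5, 1, 4, 5], 0), ([1, 5, 1, 5, 1, 5, 1, 5], 0), ([4, 5, 4, 5, 4, 5, 4, 5], 0), ([3, 4, 5, 3, 4, 5, 3, 4, 5], 0), ([1, 3, 1, 5, 1, 3, 1, 5, 1, 3, 1, 5], 0), ([6, 6], 0), ([3, 6, 3, 6], 0), ([1, 6, 1, 6, 1, 6], 0), ([5, 6, 5, 6, 5, 6], 0),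 ([4, 6, 4, 6, 4, 6, 4, 6], 0), ([1, 5, 6, 2, 5, 1, 5, 6, 2, 5], 0), ([7, 7], 0), ([3, 7, 3, 7], 0), ([4, 7, 4, 7], 0), ([5, 7, 5, 7], 0), ([6, 7, 6, 7, 6, 7], 0), ([1, 7, 1, 7, 1, 7, 1, 7], 0), ([1, 7, 6, 4, 6, 7, 2, 3], 0), ([8, 8], 0), ([6, 8, 6, 8], 0), ([7, 8, 7, 8], 0), ([1, 8, 1, 8, 1, 8], 0), ([3, 8, 3, 8, 3, 8], 0), ([4, 8, 4, 8, 4, 8], 0), ([5, 8, 5, 8, 5, 8], 0), ([3, 4, 5, 8, 5, 4, 5, 8, 5], 0), ([1, 2], 0), ([2, 1], 0)]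

def T1 : List (List ℕ × ℕ) := [([3, 3], 37), ([4, 4], 7), ([1, 1, 1], 0), ([3, 4, 3, 4], 13), ([1, 3, 1, 3, 1, 3], 12), ([1, 4, 1, 4, 1, 4], 13), ([1, 4, 2, 3, 1, 4, 2, 3], 1766), ([5, 5], 1125), ([3, 5, 3, 5, 3, 5], 1120), ([1, 4, 5, 1, 4, 5], 19), ([1, 5, 1, 5, 1, 5, 1, 5], 1576), ([4, 5, 4, 5, 4, 5, 4, 5], 7), ([3, 4, 5, 3, 4, 5, 3, 4, 5], 2), ([1, 3, 1, 5, 1, 3, 1, 5, 1, 3, 1, 5], 1592), ([6, 6], 0), ([3, 6, 3, 6], 963), ([1, 6, 1, 6, 1, 6], 0), ([5, 6, 5, 6, 5, 6], 783), ([4, 6, 4, 6, 4, 6, 4, 6], 11), ([1, 5, 6, 2, 5, 1, 5, 6, 2, 5], 1898), ([7, 7], 0), ([3, 7, 3, 7], 1370), ([4, 7, 4, 7], 40), ([5, 7, 5, 7], 0), ([6, 7, 6, 7, 6, 7], 1495), ([1, 7, 1, 7, 1, 7, 1, 7], 1458), ([1, 7, 6, 4, 6, 7, 2, 3], 37), ([8, 8], 0), ([6, 8, 6, 8], 0), ([7, 8, 7, 8], 0), ([1, 8, 1, 8, 1, 8], 0), ([3, 8, 3, 8, 3, 8], 6), ([4, 8, 4, 8, 4, 8], 718), ([5, 8, 5, 8, 5, 8], 781), ([3, 4, 5, 8, 5, 4, 5, 8, 5], 194),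 ([1, 2], 0), ([2, 1], 0)]

def cs7 : List ℕ := [nat_lit 0x170c15140d10110f12010807040b09131606000a0e050302, nat_lit 0x17081514070d110316120e100a04090f0100050b0c061302, nat_lit 0x170715140b0e11130a0d1216100100030c06050804090f02, nat_lit 0x170f15141007000b08030a0d130c09160406051201110e02, nat_lit 0x170b15000804110c011613030e0f090d1206050710140a02]

def cs8 : List ℕ := [nat_lit 0x170c15140d10110f12010807040b09131606000a0e050302, nat_lit 0x17081514070d110316120e100a04090f0100050b0c061302, nat_lit 0x170715140b0e11130a0d1216100100030c06050804090f02, nat_lit 0x170f15141007000b08030a0d130c09160406051201110e02, nat_lit 0x170b15000804110c011613030e0f090d1206050710140a02, nat_lit 0x170e0014010f1112100b0c0a160d09041306050308150702]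

noncomputable def ce7 : ℕ → ℕ → ℕ × ℕ × ℕ × ℕ := fun i j => nth (0, 0, 0, 0) (nth [] [[(0, 0, 0, 0), (nat_lit 0x1716110a13100b0203060c070409150e00010814050d0f12, nat_lit 0x20410, 0, nat_lit 0x320e10), (nat_lit 0x1711070c0b100602030e09150a1200081614130f01050d04, nat_lit 0x120080, 0, nat_lit 0x7210c0), (nat_lit 0x170203061311050a0f1408160c0b01120d15040709000e10, nat_lit 0x10000a, 0, nat_lit 0x30424a), (nat_lit 0x170e090515120d0f0b101307140a06110308160c01000204, nat_lit 0x2300, 0, nat_lit 0x2a2340)], [(nat_lit 0x1708090a020104071005160f110b14130e0603150c120d00, nat_lit 0x20600, 0, nat_lit 0x320e10), (0, 0, 0, 0), (nat_lit 0x170b111500140e0a0f05120102061016130c0d0409070308, nat_lit 0x60020, 0, nat_lit 0x366020), (nat_lit 0x171514050412071116100c0a06020f090003080e0d0b0113, nat_lit 0x108100, 0, nat_lit 0x708320), (nat_lit 0x17070c0804120305011606110b0d150a00130914100e020f, nat_lit 0x1028, 0, nat_lit 0x231228)],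 [(nat_lit 0x17060c070401140509000d160a02131015110e0b030f0812, nat_lit 0x101040, 0, nat_lit 0x7210c0), (nat_lit 0x170b121106050e10080d1502090313160a0f14040107000c, nat_lit 0x144000, 0, nat_lit 0x366020), (0, 0, 0, 0), (nat_lit 0x17041006150a0c140d081116130e09030f050b0701120200, nat_lit 0x10840, 0, nat_lit 0x390860), (nat_lit 0x17080a0b130405121102000e090f100c14010607030d1516, nat_lit 0x20440, 0, nat_lit 0x228462)], [(nat_lit 0x170b0903020c16000f061213040501110715080a0e10140d, nat_lit 0x104200, 0, nat_lit 0x30424a), (nat_lit 0x1705090f1012020c16130711000a1415040d08010e030b06, nat_lit 0x8220, 0, nat_lit 0x708320), (nat_lit 0x170a06150507030b16080f04140109000c13100e0d021112, nat_lit 0x860, 0, nat_lit 0x390860), (0, 0, 0, 0), (nat_lit 0x170f07130e090d0811000a0c1403060b0515041202160110, 656, 0, nat_lit 0x2402f0)], [(nat_lit 0x1700090e0d1013050f0c06010312111516080704140b020a, nat_lit 0x80240, 0, nat_lit 0x2a2340),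 (nat_lit 0x170603081312100c140d0215000b05040f071116090a0e01, nat_lit 0x10028, 0, nat_lit 0x231228), (nat_lit 0x170e11030c130512150b0d001406081602010a0409100f07, nat_lit 0x20402, 0, nat_lit 0x228462), (nat_lit 0x170a060d0109110c0b1308161000070e041215051402030f, 592, 0, nat_lit 0x2402f0), (0, 0, 0, 0)]] i) j

noncomputable def ce8 : ℕ → ℕ → ℕ × ℕ × ℕ × ℕ := fun i j => nth (0, 0, 0, 0) (nth [] [[(0, 0, 0, 0), (nat_lit 0x1716110a13100b0203060c070409150e00010814050d0f12, nat_lit 0x4a9a75, nat_lit 0x343490, 0), (nat_lit 0x1711070c0b100602030e09150a1200081614130f01050d04, nat_lit 0x6404ca, nat_lit 0x76ff43, 0), (nat_lit 0x170203061311050a0f1408160c0b01120d15040709000e10, nat_lit 0xac246, nat_lit 0x746ca3, 0), (nat_lit 0x170e090515120d0f0b101307140a06110308160c01000204, nat_lit 0xa7221, nat_lit 0x3b6171, 0), (nat_lit 0x17020a0913061411100d0501160e1204000f0c070308150b, nat_lit 0x718046, nat_lit 0x2a3baa, 0)],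 [(nat_lit 0x1708090a020104071005160f110b14130e0603150c120d00, nat_lit 0x384de5, nat_lit 0x3ef6d6, 0), (0, 0, 0, 0), (nat_lit 0x170b111500140e0a0f05120102061016130c0d0409070308, nat_lit 0x64a032, nat_lit 0x7c3d05, 0), (nat_lit 0x171514050412071116100c0a06020f090003080e0d0b0113, nat_lit 0x56a257, nat_lit 0x256e4b, 0), (nat_lit 0x17070c0804120305011606110b0d150a00130914100e020f, nat_lit 0x574f5f, nat_lit 0x6296c7, 0), (nat_lit 0x170f1609140307020a0b150d0408110c010613100e120500, nat_lit 0x136dc3, nat_lit 0x7c3d05, 0)], [(nat_lit 0x17060c070401140509000d160a02131015110e0b030f0812, nat_lit 0x6ed213, nat_lit 0x6d67de, 0), (nat_lit 0x170b121106050e10080d1502090313160a0f14040107000c, nat_lit 0x426f2b, nat_lit 0x790e5a, 0), (0, 0, 0, 0), (nat_lit 0x17041006150a0c140d081116130e09030f050b0701120200, nat_lit 0x1c3822, nat_lit 0x68f079, 0), (nat_lit 0x17080a0b130405121102000e090f100c14010607030d1516, nat_lit 0x2cbd38,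 nat_lit 0x205d14, 0), (nat_lit 0x170e070802120501150c1009160a13040d031406110b000f, nat_lit 0x334b95, nat_lit 0x31a337, 0)], [(nat_lit 0x170b0903020c16000f061213040501110715080a0e10140d, nat_lit 0x776909, nat_lit 0x7c3d05, 0), (nat_lit 0x1705090f1012020c16130711000a1415040d08010e030b06, nat_lit 0x7f9c57, nat_lit 0x7c3d05, 0), (nat_lit 0x170a06150507030b16080f04140109000c13100e0d021112, nat_lit 0x654d3a, nat_lit 0x2f08f5, 0), (0, 0, 0, 0), (nat_lit 0x170f07130e090d0811000a0c1403060b0515041202160110, nat_lit 0x14cd7c, nat_lit 0x765bbb, 0), (nat_lit 0x1710130a011503120f040c140b050d0208090611070e0016, nat_lit 0x4c733a, nat_lit 0x2fac0d, 0)], [(nat_lit 0x1700090e0d1013050f0c06010312111516080704140b020a, nat_lit 0x7f38af, nat_lit 0x68f079, 0), (nat_lit 0x170603081312100c140d0215000b05040f071116090a0e01, nat_lit 0x3da10, nat_lit 0x6dc326, 0), (nat_lit 0x170e11030c130512150b0d001406081602010a0409100f07, nat_lit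 0xac246, nat_lit 0x7c299a, 0), (nat_lit 0x170a060d0109110c0b1308161000070e041215051402030f, nat_lit 0x32a69d, nat_lit 0x60a1df, 0), (0, 0, 0, 0), (nat_lit 0x17110a0304140601150b0f0205100e08070916120c13000d, nat_lit 0x334b95, nat_lit 0x7c99fd, 0)], [(nat_lit 0x171507120806140910030d010200110a0b0f1304050c160e, nat_lit 0x6bf5d3, nat_lit 0x349068, 0), (nat_lit 0x17060401140f13120015100e080a110c050d0902030b0716, nat_lit 0x75d3d7, nat_lit 0x790e5a, 0), (nat_lit 0x170e13110c0a0500120d0b0f070109041008031406021516, nat_lit 0x6bf5d3, nat_lit 0x790e5a, 0), (nat_lit 0x170110050211000b0f07060a0e091403130c0d0412150816, nat_lit 0x7f9c57, nat_lit 0x67a598, 0), (nat_lit 0x170b0a0c13010e0f1206020011070515030916040d081410, nat_lit 0x48b9f2, nat_lit 0x68f079, 0), (0, 0, 0, 0)]] i) j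

theorem inH_all {l : List ℕ} (h : allL l inM23 = true) : ∀ g ∈ l, gc.InH Spor.M23 g :=
  fun g hg => inH_of_inM23 (allL_iff.1 h g hg)

theorem hgs : ∀ g ∈ gs, gc.InH Spor.M23 g := inH_all (by decide +kernel)

theorem gen_gs : gc.gen gs = Spor.M23 :=
  Golay.Coding.gen_eq_of_chain [(0, 23, [[2, 3, 1, 3, 2, 0], [1, 0, 2, 2, 3, 3, 2], [3, 0, 2, 0, 2, 3, 1, 0]]), (1, 22, [[1, 2, 1, 1, 2], [2], [0, 0, 1, 0, 1, 2]]), (2, 21, [[2, 0, 2, 0, 0, 2], [2, 2, 0, 0, 2, 0, 2, 1], [0, 2, 0]]), (3, 20, [[2, 0, 1, 2, 2, 2, 0, 1], [2, 2, 1, 2, 2, 0], [1, 0, 2, 1, 0]]), (4, 16, [[2, 0], [0, 2, 2], [0, 2, 2]]), (5, 3, [])] hgs (by decide +kernel) (by rw [Golay.card_M23]; decide +kernel)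

theorem hRW : ∀ w ∈ RW, Nat.beq (wordN 24 gs w) (wordN 24 gs []) = true := allL_iff.1 (by decide +kernel)

theorem tg0 : Tgt M23x.iv M23x.R M23x.L T0 := by unfold Tgt; decide +kernel

theorem tg1 : Tgt M23x.iv M23x.R M23x.L T1 := by unfold Tgt; decide +kernel

theorem hT0 : ∀ t ∈ T0, Nat.beq (wordN 24 gs (flat dw t.1)) (wordN 24 gs []) = true := allL_iff.1 (by decide +kernel)

theorem hT1 : ∀ t ∈ T1, Nat.beq (wordN 24 gs (flat dw t.1)) (wordN 24 gs []) = true := fun t ht => by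
  obtain ⟨s, hs, e⟩ := (by decide +kernel : ∀ t ∈ T1, ∃ s ∈ T0, s.1 = t.1) t ht
  exact e ▸ hT0 s hs

theorem dw_nil {x : ℕ} (h : x ∉ M23x.L) : dw x = [] := by
  match x, h with
  | 0, _ => rfl
  | 1, h | 2, h | 3, h | 4, h | 5, h | 6, h | 7, h | 8, h => exact absurd (by decide) h
  | _ + 9, _ => rfl

theorem cl_dw : cl (fun x => (ev (gl hgs) (dw x)).1) M23x.L = Spor.M23 := by
  refine le_antisymm (cl_le.2 fun x _ => Subtype.prop _) (gen_gs.symm.le.trans ((Subgroup.closure_le _).2 ?_))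
  have : ∀ x ∈ M23x.L, ∀ y, dw x = [y] → (gl hgs y).1 ∈ cl (fun x => (ev (gl hgs) (dw x)).1) M23x.L := fun x hx y e => by
    have := mem_cl (γ := fun x => (ev (gl hgs) (dw x)).1) hx
    rwa [e, ev_single] at this
  rintro _ ⟨g, hg, rfl⟩
  simp only [gs, List.mem_cons, List.not_mem_nil, or_false] at hg
  rcases hg with rfl | rfl | rfl | rfl
  exacts [this 1 (by decide) 0 rfl, this 6 (by decide) 1 rfl, this 7 (by decide) 2 rfl, this 8 (by decide) 3 rfl]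

theorem card8 : Nat.card ↥(Spor.M23 ⊓ MulAction.stabilizer (Equiv.Perm GolayPt) (om 3277413)) = 20160 :=
  (Golay.stab_cw_cert (n := 506) Golay.M23_le gen_gs hgs _ (by decide +kernel) Golay.card_M23 (by decide +kernel)).2

theorem in8 : ∀ g ∈ cs8, gc.InH (Spor.M23 ⊓ MulAction.stabilizer (Equiv.Perm GolayPt) (om 3277413)) g :=
  Golay.inH_inf_om (inH_all (by decide +kernel)) _ (by decide +kernel)

theorem gen8 : gc.gen cs8 = Spor.M23 ⊓ MulAction.stabilizer (Equiv.Perm GolayPt) (om 3277413) :=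
  Golay.Coding.gen_eq_of_chain [(21, 8, [[0], [1], [2], [3], [4]]), (20, 7, [[0], [1], [2], [3]]), (17, 6, [[0], [1], [2]]), (9, 5, [[0], [1]]), (6, 4, [[0]]), (5, 3, [])] in8 (by decide +kernel) (by rw [card8]; decide +kernel)

theorem carm8 : CarmOK shB (fun m => Nat.beq m 0) 3277413 3277413 cs8 ce8 := by
  have e : Hs 3277413 3277413 = Spor.M23 ⊓ MulAction.stabilizer (Equiv.Perm GolayPt) (om 3277413) := by
    rw [Hs, inf_assoc, inf_idem]
  exact ⟨e ▸ in8, e ▸ gen8, by rw [e, card8]; decide, by decide +kernel, by decide +kernel, by decide +kernel⟩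

theorem card7 : Nat.card (Hs 3277413 2097152) = 2520 :=
  (Golay.stab_set_cert (n := 8) gen8 in8 _ (by norm_num) card8 (by decide +kernel)).2

theorem in7 : ∀ g ∈ cs7, gc.InH (Hs 3277413 2097152) g :=
  Golay.inH_inf_om (Golay.inH_inf_om (inH_all (by decide +kernel)) _ (by decide +kernel)) _ (by decide +kernel)

theorem carm7 : CarmOK (fun _ => true) anB 3277413 2097152 cs7 ce7 :=
  ⟨in7, Golay.Coding.gen_eq_of_chain [(20, 7, [[0], [1], [2], [3]]), (17, 6, [[0], [1], [2]]), (9, 5, [[0], [1]]), (6, 4, [[0]]), (5, 3, [])] in7 (by decide +kernel) (by rw [card7]; decide +kernel),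
    by rw [card7]; decide, rfl, by decide +kernel, by decide +kernel⟩

end Cfsg.Lib.Comp.M23h
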