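import Cfsg.Agent.Lib.Comp.M23h.CD

set_option maxRecDepth 100000
set_option Elab.async false

namespace Cfsg.Lib.Comp.M23h

open Cfsg.Lib.MatB Cfsg.Lib.MatB.H2
open Golay (om gc wordN)
open scoped Pointwise

theorem c1 : ∀ x < 4, ∀ i < 506, tabB gs 506 cact cO cO x i = true := allN2 (by decide +kernel)

theorem c2 : ∀ i < 506, ptB (fun m => Nat.beq m 0) 4 23 cact cO cO clt i = true := allN_iff.1 (by decide +kernel)

theorem c30 : allN 506 (edgeB 4 506 23 6 cact cft crk cct cO clt cax cai RW 0) = true := by decide +kernel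

theorem c31 : allN 506 (edgeB 4 506 23 6 cact cft crk cct cO clt cax cai RW 1) = true := by decide +kernel

theorem c32 : allN 506 (edgeB 4 506 23 6 cact cft crk cct cO clt cax cai RW 2) = true := by decide +kernel

theorem c33 : allN 506 (edgeB 4 506 23 6 cact cft crk cct cO clt cax cai RW 3) = true := by decide +kernel

theorem c3 : ∀ x < 4, ∀ i < 506, edgeB 4 506 23 6 cact cft crk cct cO clt cax cai RW x i = true := by
  intro x hx
  interval_cases x
  exacts [allN_iff.1 c30, allN_iff.1 c31, allN_iff.1 c32, allN_iff.1 c33]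

theorem c4 : ∀ j < 93, rowB 4 506 23 6 cact cft cO RW cB cQ j = true := allN_iff.1 (by decide +kernel)

theorem c5 : ∀ t ∈ T1, ∀ i ∈ cI, tgtB 4 93 cact cft cO cbs 11 cvf cB (nat_lit 0x10f1300149f082ae401bf7417451022387082ae40149f24) dw t i = true :=
  fun t ht => allL_iff.1 (allL_iff.1 (show allL T1 (fun t => allL cI (tgtB 4 93 cact cft cO cbs 11 cvf cB (nat_lit 0x10f1300149f082ae401bf7417451022387082ae40149f24) dw t)) = true
    by decide +kernel) t ht)

theorem nd {w : W} (h : ∀ i ∈ cI, lam (cO i) w = 0) : w ∈ golayCode ∨ w + Pi.single none 1 ∈ golayCode :=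
  nd_cocode (by decide +kernel) (by decide +kernel) h

theorem tails {E : Type*} [Group E] {π : E →* Equiv.Perm GolayPt} {θ : W → E}
    (X : Ext π ⊤ θ shB (fun m => Nat.beq m 0) (fun _ => true))
    (hk : ∀ w, w ∈ golayCode ∨ w + Pi.single none 1 ∈ golayCode → θ w = 1)
    (hns : ∀ H : Subgroup E, H ⊓ π.ker = ⊥ → H ⊔ π.ker ≠ ⊤) :
    ∃ δ : ℕ → E, (∀ x, π (δ x) = (ev (gl hgs) (dw x)).1) ∧ (∀ x ∉ M23x.L, δ x = 1) ∧
      ∀ t ∈ T1, θ (Golay.ind (om t.2)) = ev δ t.1 := by
  have C := carm8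
  rw [show 3277413 = cO 0 by decide +kernel] at C
  obtain ⟨δ, ε, h1, h2, h3⟩ := X.core hgs (X.exists_val hgs C (by decide) hRW c1 c2 c3 c4) (nb := 11) (bs := cbs)
    (fun _ _ => rfl) (by decide +kernel) hT1 c5
  rcases Golay.zmod2_cases ε with rfl | rfl
  · obtain ⟨H, a, b⟩ := X.split M23x.ord tg1 ((congrArg (cl · _) (funext h1)).trans cl_dw)
      (fun x hx => h2 x (dw_nil hx)) fun t ht => by
        obtain ⟨w, -, a, b⟩ := h3 t ht
        exact a ▸ hk w (nd fun i hi => by rw [b i hi, zero_mul])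
    exact absurd b (hns H a)
  · refine ⟨δ, h1, fun x hx => h2 x (dw_nil hx), fun t ht => ?_⟩
    obtain ⟨w, -, a, b⟩ := h3 t ht
    have := hk (w + Golay.ind (om t.2)) (nd fun i hi => by rw [lam_add, b i hi, one_mul, aa])
    rw [X.add _ trivial _ trivial] at this
    rw [← a, eq_inv_of_mul_eq_one_left this, inv_eq_of_mul_eq_one_right (X.sq trivial)]

end Cfsg.Lib.Comp.M23h
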