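import Cfsg.Agent.Lib.Comp.M23h.KD

set_option maxRecDepth 100000
set_option Elab.async false

namespace Cfsg.Lib.Comp.M23h

open Cfsg.Lib.MatB Cfsg.Lib.MatB.H2
open Golay (om gc wordN)
open scoped Pointwise

theorem k1 : ∀ x < 4, ∀ i < 4048, tabB gs 4048 kact kO kA x i = true := allN2 (by decide +kernel)

theorem k2 : ∀ i < 4048, ptB anB 4 11 kact kA ktA klt i = true := allN_iff.1 (by decide +kernel)

theorem k30 : allN 4048 (edgeB 4 4048 11 23 kact kft krk kct ktA klt kax kai RW 0) = true := by decide +kernel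

theorem k31 : allN 4048 (edgeB 4 4048 11 23 kact kft krk kct ktA klt kax kai RW 1) = true := by decide +kernel

theorem k32 : allN 4048 (edgeB 4 4048 11 23 kact kft krk kct ktA klt kax kai RW 2) = true := by decide +kernel

theorem k33 : allN 4048 (edgeB 4 4048 11 23 kact kft krk kct ktA klt kax kai RW 3) = true := by decide +kernel

theorem k3 : ∀ x < 4, ∀ i < 4048, edgeB 4 4048 11 23 kact kft krk kct ktA klt kax kai RW x i = true := by
  intro x hx
  interval_cases x
  exacts [allN_iff.1 k30, allN_iff.1 k31, allN_iff.1 k32, allN_iff.1 k33]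

theorem k4 : ∀ j < 111, rowB 4 4048 11 23 kact kft ktA RW kB kQ j = true := allN_iff.1 (by decide +kernel)

theorem k5 : ∀ t ∈ T0, ∀ i ∈ kI, tgtB 4 111 kact kft kA kbs 11 kvf kB (0) dw t i = true :=
  fun t ht => allL_iff.1 (allL_iff.1 (show allL T0 (fun t => allL kI (tgtB 4 111 kact kft kA kbs 11 kvf kB (0) dw t)) = true
    by decide +kernel) t ht)

theorem split {E : Type*} [Group E] {π : E →* Equiv.Perm GolayPt} {θ : W → E} (X : Ext π Sc θ (fun _ => true) anB shB) :
    ∃ H : Subgroup E, H ⊓ π.ker = ⊥ ∧ H ⊔ π.ker = ⊤ := by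
  have C := carm7
  rw [show 3277413 = kO 0 by decide +kernel, show 2097152 = kA 0 by decide +kernel] at C
  obtain ⟨δ, ε, h1, h2, h3⟩ := X.core hgs (X.exists_val hgs C (by decide) hRW k1 k2 k3 k4) (nb := 11) (bs := kbs)
    (by decide +kernel) (by decide +kernel) hT0 k5
  refine X.split M23x.ord tg0 ((congrArg (cl · _) (funext h1)).trans cl_dw) (fun x hx => h2 x (dw_nil hx)) fun t ht => ?_
  obtain ⟨w, hw, a, b⟩ := h3 t ht
  rw [← a, nd_code (pA := kA) (I := kI) (by decide +kernel) hw fun i hi => ?_, X.zero]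
  rw [b i hi, (by decide +kernel : ∀ t ∈ T0, t.2 = 0) t ht, show om 0 = ∅ from gc.ofMask_zero, Golay.ind_empty]
  simp [lam]

end Cfsg.Lib.Comp.M23h
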